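import Groth.Agent.HilbCurveLib.Scheme
import Groth.Agent.NodePtLib.StalkBC
import Groth.Agent.NormalSch.CurveVal
import Groth.Prelude.Def_CurvBase

/-!
A ramified point of a map of smooth curves with separable residue extension has separable residue field.
-/

set_option autoImplicit false
set_option linter.style.haveILetI false
set_option backward.isDefEq.respectTransparency false

universe u

open CategoryTheory AlgebraicGeometry IsLocalRing TensorProduct

namespace Groth.Agent.TameSepLib

theorem map_maximalIdeal_eq {k A B : Type u} [Field k] [CommRing A] [IsLocalRing A] [CommRing B] [IsLocalRing B]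
    [Algebra k A] [Algebra k B] [Algebra A B] [IsScalarTower k A B] [IsLocalHom (algebraMap A B)]
    [Algebra.EssFiniteType A B] [Module.Finite k (ResidueField B)]
    (hgen : ∃ ω : Ω[B⁄k], Submodule.span B {ω} = ⊤)
    (hsep : Algebra.IsSeparable (ResidueField A) (ResidueField B))
    (hns : ¬ Algebra.IsSeparable k (ResidueField B)) :
    (maximalIdeal A).map (algebraMap A B) = maximalIdeal B := by
  let L := ResidueField B
  haveI hΩ : Nontrivial Ω[L⁄k] := by
    by_contra h
    haveI := not_nontrivial_iff_subsingleton.1 h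
    haveI : Algebra.FormallyUnramified k L := ⟨inferInstance⟩
    exact hns (Algebra.FormallyUnramified.isSeparable k L)
  haveI : Algebra.FormallyUnramified A (ResidueField A) :=
    Algebra.FormallyUnramified.of_surjective (Algebra.ofId A (ResidueField A)) Ideal.Quotient.mk_surjective
  haveI := hsep
  haveI : Algebra.FormallyEtale (ResidueField A) L := Algebra.FormallyEtale.of_isSeparable _ _
  haveI : Algebra.FormallyUnramified A L := Algebra.FormallyUnramified.comp A (ResidueField A) L
  have hsA : Function.Surjective (KaehlerDifferential.mapBaseChange k A L) := by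
    intro x
    exact (KaehlerDifferential.exact_mapBaseChange_map k A L x).1 (Subsingleton.elim _ _)
  haveI : Algebra.FormallyUnramified B L :=
    Algebra.FormallyUnramified.of_surjective (Algebra.ofId B L) Ideal.Quotient.mk_surjective
  let g := KaehlerDifferential.mapBaseChange k B L
  have hsB : Function.Surjective g := by
    intro x
    exact (KaehlerDifferential.exact_mapBaseChange_map k B L x).1 (Subsingleton.elim _ _)
  obtain ⟨ω, hω⟩ := hgen
  have hspan : ∀ x : L ⊗[B] Ω[B⁄k], ∃ c : L, x = c • ((1 : L) ⊗ₜ[B] ω) := by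
    intro x
    induction x using TensorProduct.induction_on with
    | zero => exact ⟨0, (zero_smul _ _).symm⟩
    | tmul l y =>
      obtain ⟨b, rfl⟩ := Submodule.mem_span_singleton.1 (hω ▸ Submodule.mem_top : y ∈ Submodule.span B {ω})
      refine ⟨b • l, ?_⟩
      rw [TensorProduct.smul_tmul', smul_eq_mul, mul_one, TensorProduct.smul_tmul]
    | add x y hx hy =>
      obtain ⟨c, rfl⟩ := hx
      obtain ⟨d, rfl⟩ := hy
      exact ⟨c + d, (add_smul _ _ _).symm⟩
  have hg0 : g ((1 : L) ⊗ₜ[B] ω) ≠ 0 := fun h0 => by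
    obtain ⟨y, hy⟩ := exists_ne (0 : Ω[L⁄k])
    obtain ⟨x, rfl⟩ := hsB y
    obtain ⟨c, rfl⟩ := hspan x
    exact hy (by rw [map_smul, h0, smul_zero])
  have hinj : Function.Injective g := (injective_iff_map_eq_zero g).2 fun x hx => by
    obtain ⟨c, rfl⟩ := hspan x
    rw [map_smul] at hx
    rw [(smul_eq_zero.1 hx).resolve_right hg0, zero_smul]
  -- the differentials of `B` over `k` are spanned by those of `A` modulo the maximal ideal
  let T : Submodule L (L ⊗[B] Ω[B⁄k]) := Submodule.span L (Set.range fun a : A =>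
    (1 : L) ⊗ₜ[B] KaehlerDifferential.D k B (algebraMap A B a))
  have hT : ∀ z : L ⊗[A] Ω[A⁄k], ∃ t ∈ T, g t = KaehlerDifferential.mapBaseChange k A L z := by
    intro z
    induction z using TensorProduct.induction_on with
    | zero => exact ⟨0, T.zero_mem, by simp⟩
    | tmul l y =>
      have hy : y ∈ Submodule.span A (Set.range (KaehlerDifferential.D k A)) := by
        rw [KaehlerDifferential.span_range_derivation]; exact Submodule.mem_top
      induction hy using Submodule.span_induction generalizing l with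
      | mem y hy =>
        obtain ⟨a, rfl⟩ := hy
        refine ⟨l • ((1 : L) ⊗ₜ[B] KaehlerDifferential.D k B (algebraMap A B a)),
          T.smul_mem _ (Submodule.subset_span ⟨a, rfl⟩), ?_⟩
        rw [map_smul, KaehlerDifferential.mapBaseChange_tmul, KaehlerDifferential.mapBaseChange_tmul,
          KaehlerDifferential.map_D, KaehlerDifferential.map_D, one_smul, ← IsScalarTower.algebraMap_apply]
      | zero => exact ⟨0, T.zero_mem, by simp⟩
      | add y₁ y₂ _ _ h₁ h₂ =>
        obtain ⟨t₁, ht₁, e₁⟩ := h₁ l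
        obtain ⟨t₂, ht₂, e₂⟩ := h₂ l
        exact ⟨t₁ + t₂, T.add_mem ht₁ ht₂, by rw [tmul_add, map_add, map_add, e₁, e₂]⟩
      | smul a y _ h =>
        obtain ⟨t, ht, e⟩ := h (a • l)
        exact ⟨t, ht, by rw [← TensorProduct.smul_tmul, e]⟩
    | add z₁ z₂ h₁ h₂ =>
      obtain ⟨t₁, ht₁, e₁⟩ := h₁
      obtain ⟨t₂, ht₂, e₂⟩ := h₂
      exact ⟨t₁ + t₂, T.add_mem ht₁ ht₂, by rw [map_add, map_add, e₁, e₂]⟩
  have htop : T = ⊤ := by
    refine eq_top_iff.2 fun x _ => ?_
    obtain ⟨z, hz⟩ := hsA (g x)
    obtain ⟨t, ht, e⟩ := hT z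
    rwa [hinj (e.trans hz)] at ht
  let q : L ⊗[B] Ω[B⁄k] →ₗ[L] L ⊗[B] Ω[B⁄A] := LinearMap.baseChange L (KaehlerDifferential.map k A B B)
  have hq : Function.Surjective q :=
    LinearMap.baseChange_surjective _ (KaehlerDifferential.map_surjective k A B)
  have hq0 : T ≤ LinearMap.ker q := Submodule.span_le.2 (by
    rintro _ ⟨a, rfl⟩
    show q _ = 0
    simp only [q, LinearMap.baseChange_tmul, KaehlerDifferential.map_D, Algebra.algebraMap_self, RingHom.id_apply,
      Derivation.map_algebraMap, tmul_zero])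
  haveI : Subsingleton (L ⊗[B] Ω[B⁄A]) := subsingleton_of_forall_eq 0 fun y => by
    obtain ⟨x, rfl⟩ := hq y
    exact hq0 (htop ▸ Submodule.mem_top)
  haveI : Subsingleton Ω[B⁄A] := (IsLocalRing.subsingleton_tensorProduct (R := B)).1 inferInstance
  haveI : Algebra.FormallyUnramified A B := ⟨inferInstance⟩
  exact Algebra.FormallyUnramified.map_maximalIdeal

attribute [local instance] Curv2.stalkAlgebra

variable {k : Type u} [Field k] {X : Scheme.{u}} [X.Over (Spec (CommRingCat.of k))]

theorem exists_span_kaehler_stalk [SmoothOfRelativeDimension 1 (X ↘ Spec (CommRingCat.of k))] (x : X) :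
    ∃ ω : Ω[X.presheaf.stalk x⁄k], Submodule.span (X.presheaf.stalk x) {ω} = ⊤ := by
  obtain ⟨V, hxV, -, hs⟩ := HilbCurveLib.exists_chart (X ↘ Spec (CommRingCat.of k)) (x := x) (W := ⊤) trivial
  letI := (HilbCurveLib.secMap (X ↘ Spec (CommRingCat.of k)) V.1).toAlgebra
  haveI : Algebra.IsStandardSmoothOfRelativeDimension 1 k Γ(X, V.1) := hs
  haveI : Algebra.IsStandardSmooth k Γ(X, V.1) := Algebra.IsStandardSmoothOfRelativeDimension.isStandardSmooth 1
  let B := X.presheaf.stalk x
  letI : Algebra Γ(X, V.1) B := TopCat.Presheaf.algebra_section_stalk X.presheaf ⟨x, hxV⟩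
  haveI : IsLocalization.AtPrime B (V.2.primeIdealOf ⟨x, hxV⟩).asIdeal := V.2.isLocalization_stalk ⟨x, hxV⟩
  haveI : IsScalarTower k Γ(X, V.1) B := IsScalarTower.of_algebraMap_eq fun c => by
    show X.presheaf.germ ⊤ x trivial _ = X.presheaf.germ V.1 x hxV _
    show _ = X.presheaf.germ V.1 x hxV (X.presheaf.map (homOfLE (le_top : V.1 ≤ ⊤)).op _)
    rw [TopCat.Presheaf.germ_res_apply]
    rfl
  haveI : Algebra.FormallyEtale Γ(X, V.1) B :=
    Algebra.FormallyEtale.of_isLocalization (V.2.primeIdealOf ⟨x, hxV⟩).asIdeal.primeCompl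
  haveI : Nontrivial Γ(X, V.1) := (algebraMap Γ(X, V.1) B).domain_nontrivial
  have hr : Module.finrank Γ(X, V.1) Ω[Γ(X, V.1)⁄k] = 1 := Module.finrank_eq_of_rank_eq
    (by exact_mod_cast Algebra.IsStandardSmoothOfRelativeDimension.rank_kaehlerDifferential (R := k) (S := Γ(X, V.1)) 1)
  haveI : Module.Finite Γ(X, V.1) Ω[Γ(X, V.1)⁄k] := Module.finite_of_finrank_pos (by rw [hr]; exact one_pos)
  let b := (Module.finBasisOfFinrankEq Γ(X, V.1) Ω[Γ(X, V.1)⁄k] hr).baseChange B
  let e := KaehlerDifferential.tensorKaehlerEquivOfFormallyEtale k Γ(X, V.1) B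
  refine ⟨e (b 0), ?_⟩
  rw [eq_top_iff, ← (b.map e).span_eq]
  refine Submodule.span_mono ?_
  rintro _ ⟨i, rfl⟩
  rw [Subsingleton.elim i 0]
  rfl

theorem finite_residueField [LocallyOfFiniteType (X ↘ Spec (CommRingCat.of k))] {x : X}
    (hx : IsClosed ({x} : Set X)) : Module.Finite k (ResidueField (X.presheaf.stalk x)) := by
  haveI : IsClosedImmersion (X.fromSpecResidueField x) := isClosed_singleton_iff_isClosedImmersion.1 hx
  have h1 : X.fromSpecResidueField x ≫ (X ↘ Spec (CommRingCat.of k)) =
      Spec.map (CommRingCat.ofHom (Curv2.resMap k X x)) := by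
    rw [show X.fromSpecResidueField x = Spec.map (X.residue x) ≫ X.fromSpecStalk x from rfl, Category.assoc,
      NormalSch.fromSpecStalk_over, ← Spec.map_comp]
    rfl
  have h2 : (CommRingCat.ofHom (Curv2.resMap k X x)).hom.FiniteType :=
    (HasRingHomProperty.Spec_iff (P := @LocallyOfFiniteType)).1 (by rw [← h1]; infer_instance)
  haveI : Algebra.FiniteType k (ResidueField (X.presheaf.stalk x)) := by
    rw [← RingHom.finiteType_algebraMap]
    exact h2
  exact finite_of_finite_type_of_isJacobsonRing k _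

end Groth.Agent.TameSepLib
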